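import Mathlib

/-!
# A lift of a smooth quotient by a regular sequence is smooth

If `B → C` is a surjection of local `R`-algebras whose kernel is generated by a regular sequence,
`C` is formally smooth and `B` has a presentation by a formally smooth algebra with free finite
differentials, then `B` is formally smooth: no flatness is needed.
-/

set_option autoImplicit false
universe u

open IsLocalRing RingTheory.Sequence TensorProduct KaehlerDifferential

namespace Groth.Agent.SmoothRegLib

/-- If `gs` is weakly regular modulo `J`, then `J ⊓ (gs) ≤ (gs) J`. -/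
theorem ker_inf_ofList_le {P B : Type u} [CommRing P] [CommRing B] (π : P →+* B) (hπ : Function.Surjective π)
    (gs : List P) (h : IsWeaklyRegular B (gs.map π)) :
    RingHom.ker π ⊓ Ideal.ofList gs ≤ Ideal.ofList gs * RingHom.ker π := by
  induction gs using List.reverseRecOn with
  | nil => simp
  | append_singleton pre g ih =>
    rw [List.map_append, isWeaklyRegular_append_iff] at h
    obtain ⟨h1, h2⟩ := h
    rintro x ⟨hxJ, hxg⟩
    have hsplit : Ideal.ofList (pre ++ [g]) = Ideal.ofList pre ⊔ Ideal.span {g} := by
      rw [Ideal.ofList_append, Ideal.ofList_singleton]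
    rw [hsplit] at hxg ⊢
    obtain ⟨y, hy, z, hz, rfl⟩ := Submodule.mem_sup.mp hxg
    obtain ⟨a, rfl⟩ := Ideal.mem_span_singleton'.mp hz
    have hmap : Ideal.ofList (pre.map π) = (Ideal.ofList pre).map π := (Ideal.map_ofList π pre).symm
    have hga : π g * π a ∈ Ideal.ofList (pre.map π) := by
      have : π y + π a * π g = 0 := by
        rw [← map_mul, ← map_add]; exact hxJ
      rw [mul_comm, eq_neg_of_add_eq_zero_right this, hmap]
      exact neg_mem (Ideal.mem_map_of_mem π hy)
    rw [List.map_cons, List.map_nil, isWeaklyRegular_cons_iff] at h2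
    have hsm : Ideal.ofList (pre.map π) • (⊤ : Submodule B B) = Ideal.ofList (pre.map π) := by
      rw [smul_eq_mul, Ideal.mul_top]
    have ha : π a ∈ Ideal.ofList (pre.map π) := by
      have h0 : π g • (Submodule.Quotient.mk (π a) : B ⧸ Ideal.ofList (pre.map π) • (⊤ : Submodule B B)) = π g • 0 := by
        rw [smul_zero, ← Submodule.Quotient.mk_smul, Submodule.Quotient.mk_eq_zero, hsm, smul_eq_mul]
        exact hga
      have := h2.1 h0
      rwa [Submodule.Quotient.mk_eq_zero, hsm] at this
    rw [hmap, Ideal.mem_map_iff_of_surjective π hπ] at ha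
    obtain ⟨y', hy', hyy⟩ := ha
    have hj : a - y' ∈ RingHom.ker π := by rw [RingHom.mem_ker, map_sub, hyy, sub_self]
    have h3 : y + y' * g ∈ RingHom.ker π ⊓ Ideal.ofList pre := by
      refine ⟨?_, add_mem hy (Ideal.mul_mem_right _ _ hy')⟩
      have : y + y' * g = (y + a * g) - (a - y') * g := by ring
      rw [this]
      exact sub_mem hxJ (Ideal.mul_mem_right _ _ hj)
    rw [Ideal.sup_mul, show y + a * g = (y + y' * g) + g * (a - y') by ring]
    exact Submodule.add_mem_sup (ih h1 h3) (Ideal.mul_mem_mul (Ideal.mem_span_singleton_self g) hj)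

/-- `1 ⊗ m` vanishes in `K ⊗ M`, `K` a quotient of `P`, iff `m` lies in the kernel times `M`. -/
theorem one_tmul_eq_zero_iff {P K M : Type u} [CommRing P] [CommRing K] [Algebra P K]
    (hPK : Function.Surjective (algebraMap P K)) [AddCommGroup M] [Module P M] (m : M) :
    (1 : K) ⊗ₜ[P] m = 0 ↔ m ∈ RingHom.ker (Algebra.ofId P K) • (⊤ : Submodule P M) := by
  let e : K ≃ₗ[P] P ⧸ RingHom.ker (Algebra.ofId P K) :=
    (Ideal.quotientKerAlgEquivOfSurjective (f := Algebra.ofId P K) hPK).symm.toLinearEquiv
  have he1 : e 1 = 1 := map_one (Ideal.quotientKerAlgEquivOfSurjective (f := Algebra.ofId P K) hPK).symm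
  rw [← LinearMap.ker_tensorProductMk (R := P) (Q := M), LinearMap.mem_ker,
    ← (TensorProduct.congr e (LinearEquiv.refl P M)).map_eq_zero_iff]
  simp [he1]

theorem mem_smul_top_iff_coe {P : Type u} [CommRing P] (m I : Ideal P) (x : I) :
    x ∈ m • (⊤ : Submodule P I) ↔ (x : P) ∈ m * I := by
  rw [← Submodule.comap_map_eq_of_injective (f := I.subtype) Subtype.val_injective (m • (⊤ : Submodule P I)),
    Submodule.mem_comap, Submodule.map_smul'', Submodule.map_top, Submodule.range_subtype]
  rfl

/-- A lift of a formally smooth algebra by a regular sequence is formally smooth. -/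
theorem formallySmooth_of_quotient_regular' {R P B C : Type u} [CommRing R] [CommRing P] [CommRing B] [CommRing C]
    [IsLocalRing P] [IsLocalRing B] [IsLocalRing C]
    [Algebra R P] [Algebra R B] [Algebra R C] [Algebra P B] [Algebra B C] [Algebra P C]
    [IsScalarTower R P B] [IsScalarTower R B C] [IsScalarTower R P C] [IsScalarTower P B C]
    [Algebra.FormallySmooth R P] [Module.Free P Ω[P⁄R]] [Module.Finite P Ω[P⁄R]]
    (hPB : Function.Surjective (algebraMap P B)) (hBC : Function.Surjective (algebraMap B C))
    (hC : Algebra.FormallySmooth R C) (rs : List B) (hrs : IsWeaklyRegular B rs)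
    (hker : RingHom.ker (algebraMap B C) = Ideal.ofList rs) (hfg : (RingHom.ker (algebraMap P B)).FG) :
    Algebra.FormallySmooth R B := by
  classical
  let K := ResidueField C
  haveI : IsScalarTower P B K := IsScalarTower.of_algebraMap_eq fun x => by
    rw [IsScalarTower.algebraMap_apply P C K, IsScalarTower.algebraMap_apply P B C, ← IsScalarTower.algebraMap_apply B C K]
  have hPC : Function.Surjective (algebraMap P C) := by
    rw [IsScalarTower.algebraMap_eq P B C]; exact hBC.comp hPB
  have hlocB : IsLocalHom (algebraMap B C) := IsLocalHom.of_surjective _ hBC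
  have hlocP : IsLocalHom (algebraMap P C) := IsLocalHom.of_surjective _ hPC
  have hB3 : maximalIdeal B ≤ RingHom.ker (algebraMap B K) := fun x hx => by
    rw [RingHom.mem_ker, IsScalarTower.algebraMap_apply B C K]
    exact (residue_eq_zero_iff _).mpr (map_nonunit (algebraMap B C) x hx)
  have hC3 : maximalIdeal C ≤ RingHom.ker (algebraMap C K) := fun x hx => (residue_eq_zero_iff x).mpr hx
  have hfgC : (RingHom.ker (algebraMap P C)).FG := by
    rw [IsScalarTower.algebraMap_eq P B C, ← RingHom.comap_ker, hker]
    obtain ⟨gs, hgs⟩ : ∃ gs : List P, gs.map (algebraMap P B) = rs :=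
      ⟨rs.map (Function.surjInv hPB), by simp [Function.comp_def, Function.surjInv_eq hPB]⟩
    rw [← hgs, ← Ideal.map_ofList, Ideal.comap_map_of_surjective' _ hPB]
    exact Submodule.FG.sup ⟨gs.toFinset, congrArg Ideal.span (Set.ext fun a => List.mem_toFinset)⟩ hfg
  rw [Algebra.FormallySmooth.iff_injective_cotangentComplexBaseChange (R := R) (S := B) P K hPB
    hfg hB3]
  have hCinj := (Algebra.FormallySmooth.iff_injective_cotangentComplexBaseChange (R := R) (S := C) P K hPC
    hfgC hC3).mp hC
  have hle : RingHom.ker (algebraMap P B) ≤ RingHom.ker (algebraMap P C) := fun x hx => by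
    rw [RingHom.mem_ker, IsScalarTower.algebraMap_apply P B C, RingHom.mem_ker.mp hx, map_zero]
  let inc : RingHom.ker (algebraMap P B) →ₗ[P] RingHom.ker (algebraMap P C) := Submodule.inclusion hle
  have hfac : cotangentComplexBaseChange R B P K =
      (cotangentComplexBaseChange R C P K).comp (inc.baseChange K) := by
    ext t
    simp only [AlgebraTensorModule.curry_apply, TensorProduct.curry_apply, LinearMap.restrictScalars_apply,
      LinearMap.comp_apply, LinearMap.baseChange_tmul, cotangentComplexBaseChange_tmul]
    rfl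
  rw [hfac]
  refine hCinj.comp ?_
  rw [injective_iff_map_eq_zero]
  have hPK : Function.Surjective (algebraMap P K) := by
    rw [IsScalarTower.algebraMap_eq P C K]; exact residue_surjective.comp hPC
  intro t ht
  obtain ⟨j, rfl⟩ : ∃ j, (1 : K) ⊗ₜ[P] j = t := by
    simpa using TensorProduct.mk_surjective P _ K hPK t
  rw [LinearMap.baseChange_tmul] at ht
  rw [one_tmul_eq_zero_iff hPK, mem_smul_top_iff_coe] at ht ⊢
  have hm : RingHom.ker (Algebra.ofId P K) ≤ maximalIdeal P := IsLocalRing.le_maximalIdeal (RingHom.ker_ne_top _)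
  set m := RingHom.ker (Algebra.ofId P K) with hmdef
  obtain ⟨gs, hgs⟩ : ∃ gs : List P, gs.map (algebraMap P B) = rs :=
    ⟨rs.map (Function.surjInv hPB), by simp [Function.comp_def, Function.surjInv_eq hPB]⟩
  have hgm : Ideal.ofList gs ≤ m := by
    refine Ideal.span_le.mpr fun g hg => ?_
    show algebraMap P K g = 0
    rw [IsScalarTower.algebraMap_apply P B K]
    refine hB3 ?_
    have : algebraMap P B g ∈ RingHom.ker (algebraMap B C) := by
      rw [hker, ← hgs]
      exact Ideal.subset_span (List.mem_map_of_mem hg)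
    exact IsLocalRing.le_maximalIdeal (RingHom.ker_ne_top _) this
  have hKid : RingHom.ker (algebraMap P C) ≤ RingHom.ker (algebraMap P B) ⊔ Ideal.ofList gs := by
    intro x hx
    have h1 : algebraMap P B x ∈ (Ideal.ofList gs).map (algebraMap P B) := by
      rw [Ideal.map_ofList, hgs, ← hker, RingHom.mem_ker, ← IsScalarTower.algebraMap_apply]
      exact hx
    have h2 : x ∈ ((Ideal.ofList gs).map (algebraMap P B)).comap (algebraMap P B) := h1
    rw [Ideal.comap_map_of_surjective' _ hPB, sup_comm] at h2
    exact h2
  have ht' : (j : P) ∈ m * (RingHom.ker (algebraMap P B) ⊔ Ideal.ofList gs) :=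
    Ideal.mul_mono le_rfl hKid ht
  rw [Ideal.mul_sup] at ht'
  obtain ⟨y, hy, z, hz, hyz⟩ := Submodule.mem_sup.mp ht'
  have hzJ : z ∈ RingHom.ker (algebraMap P B) := by
    rw [show z = (j : P) - y by rw [← hyz]; ring]
    exact sub_mem (SetLike.coe_mem j) ((Ideal.mul_le_right : m * RingHom.ker (algebraMap P B) ≤ _) hy)
  have hz2 := ker_inf_ofList_le (algebraMap P B) hPB gs (by rw [hgs]; exact hrs) ⟨hzJ, (Ideal.mul_le_right : m * Ideal.ofList gs ≤ _) hz⟩
  rw [← hyz]
  exact add_mem hy (Ideal.mul_mono hgm le_rfl hz2)

/-- A lift of a formally smooth algebra by a regular sequence is formally smooth. -/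
theorem formallySmooth_of_quotient_regular {R P B C : Type u} [CommRing R] [CommRing P] [CommRing B] [CommRing C]
    [IsLocalRing P] [IsLocalRing B] [IsLocalRing C]
    [Algebra R P] [Algebra R B] [Algebra R C] [Algebra P B] [Algebra B C] [Algebra P C]
    [IsScalarTower R P B] [IsScalarTower R B C] [IsScalarTower R P C] [IsScalarTower P B C]
    [Algebra.FormallySmooth R P] [Module.Free P Ω[P⁄R]] [Module.Finite P Ω[P⁄R]] [IsNoetherianRing P]
    (hPB : Function.Surjective (algebraMap P B)) (hBC : Function.Surjective (algebraMap B C))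
    (hC : Algebra.FormallySmooth R C) (rs : List B) (hrs : IsWeaklyRegular B rs)
    (hker : RingHom.ker (algebraMap B C) = Ideal.ofList rs) :
    Algebra.FormallySmooth R B :=
  formallySmooth_of_quotient_regular' hPB hBC hC rs hrs hker (IsNoetherian.noetherian _)

end Groth.Agent.SmoothRegLib
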