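import Mathlib
import Groth.Prelude.Def_CInt
import Groth.Prelude.Def_RegImm
import Groth.Prelude.Def_Mor2
import Groth.Agent.SmoothRegLib.Alg
import Groth.Agent.RegIdealLib.Near
import Groth.Agent.RegIdealLib.Immersion
import Groth.Agent.S2890
import Groth.Agent.S1535

/-!
# Smoothness along a smooth closed subscheme

For a closed subscheme smooth at `y` of a scheme locally of finite type over a Noetherian base, the
ambient scheme is smooth at the image of `y` iff the kernel on local rings is a regular ideal.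
-/

set_option autoImplicit false
set_option backward.isDefEq.respectTransparency false
set_option backward.defeqAttrib.useBackward true
set_option linter.style.haveILetI false

universe u

open CategoryTheory CategoryTheory.Limits AlgebraicGeometry IsLocalRing RingTheory.Sequence
open scoped TensorProduct

namespace Groth.Agent.SmoothRegLib

variable {X Y S : Scheme.{u}}

/-- Smoothness of the map on stalks can be tested over the sections of an affine open of the base. -/
theorem formallySmooth_stalkMap_iff_germ (f : X ⟶ S) (x : X) {W : S.Opens} (hW : IsAffineOpen W) (hx : f x ∈ W) :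
    (f.stalkMap x).hom.FormallySmooth ↔
      (S.presheaf.germ W (f x) hx ≫ f.stalkMap x).hom.FormallySmooth := by
  letI : Algebra Γ(S, W) (S.presheaf.stalk (f x)) := TopCat.Presheaf.algebra_section_stalk S.presheaf ⟨f x, hx⟩
  haveI := hW.isLocalization_stalk ⟨f x, hx⟩
  haveI : Algebra.FormallyEtale Γ(S, W) (S.presheaf.stalk (f x)) :=
    .of_isLocalization (hW.primeIdealOf ⟨f x, hx⟩).asIdeal.primeCompl
  letI : Algebra (S.presheaf.stalk (f x)) (X.presheaf.stalk x) := (f.stalkMap x).hom.toAlgebra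
  letI : Algebra Γ(S, W) (X.presheaf.stalk x) := (S.presheaf.germ W (f x) hx ≫ f.stalkMap x).hom.toAlgebra
  haveI : IsScalarTower Γ(S, W) (S.presheaf.stalk (f x)) (X.presheaf.stalk x) := IsScalarTower.of_algebraMap_eq' rfl
  exact (Algebra.FormallySmooth.iff_restrictScalars (R := Γ(S, W)) (A := S.presheaf.stalk (f x))
    (B := X.presheaf.stalk x)).symm

/-- A local ring of a scheme of finite type over a Noetherian ring has a formally smooth presentation. -/
theorem formallySmooth_stalk_of_regular [IsLocallyNoetherian S] (f : X ⟶ S) [LocallyOfFiniteType f] (i : Y ⟶ X)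
    [IsClosedImmersion i] (y : Y) (hY : ((i ≫ f).stalkMap y).hom.FormallySmooth)
    (hreg : CInt.IsRegularIdeal (RingHom.ker (i.stalkMap y).hom)) : (f.stalkMap (i y)).hom.FormallySmooth := by
  obtain ⟨_, ⟨W : S.Opens, hW, rfl⟩, hyW, -⟩ :=
    S.isBasis_affineOpens.exists_subset_of_mem_open (Set.mem_univ (f (i y))) isOpen_univ
  obtain ⟨_, ⟨V : X.Opens, hV, rfl⟩, hyV, hVW⟩ :=
    X.isBasis_affineOpens.exists_subset_of_mem_open (a := i y) (u := f ⁻¹' W) hyW (W.2.preimage f.continuous)
  rw [formallySmooth_stalkMap_iff_germ f (i y) hW hyW]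
  rw [formallySmooth_stalkMap_iff_germ (i ≫ f) y hW hyW] at hY
  obtain ⟨rs, hrs, hker⟩ := hreg
  haveI : IsNoetherianRing Γ(S, W) := IsLocallyNoetherian.component_noetherian ⟨W, hW⟩
  have hft : (f.appLE W V hVW).hom.FiniteType :=
    HasRingHomProperty.appLE (P := @LocallyOfFiniteType) f inferInstance ⟨W, hW⟩ ⟨V, hV⟩ hVW
  algebraize [(f.appLE W V hVW).hom]
  letI : Algebra Γ(X, V) (X.presheaf.stalk (i y)) := TopCat.Presheaf.algebra_section_stalk X.presheaf ⟨i y, hyV⟩
  haveI := hV.isLocalization_stalk ⟨i y, hyV⟩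
  letI : Algebra Γ(S, W) (X.presheaf.stalk (i y)) :=
    (S.presheaf.germ W (f (i y)) hyW ≫ f.stalkMap (i y)).hom.toAlgebra
  haveI : IsScalarTower Γ(S, W) Γ(X, V) (X.presheaf.stalk (i y)) := IsScalarTower.of_algebraMap_eq' (by
    refine congrArg CommRingCat.Hom.hom (?_ : S.presheaf.germ W (f (i y)) hyW ≫ f.stalkMap (i y) =
      f.appLE W V hVW ≫ X.presheaf.germ V (i y) hyV)
    rw [Scheme.Hom.germ_stalkMap, Scheme.Hom.appLE, Category.assoc, TopCat.Presheaf.germ_res])
  letI : Algebra (X.presheaf.stalk (i y)) (Y.presheaf.stalk y) := (i.stalkMap y).hom.toAlgebra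
  letI : Algebra Γ(S, W) (Y.presheaf.stalk y) :=
    (S.presheaf.germ W ((i ≫ f) y) hyW ≫ (i ≫ f).stalkMap y).hom.toAlgebra
  haveI : IsScalarTower Γ(S, W) (X.presheaf.stalk (i y)) (Y.presheaf.stalk y) := IsScalarTower.of_algebraMap_eq' (by
    refine congrArg CommRingCat.Hom.hom (?_ : S.presheaf.germ W ((i ≫ f) y) hyW ≫ (i ≫ f).stalkMap y =
      (S.presheaf.germ W (f (i y)) hyW ≫ f.stalkMap (i y)) ≫ i.stalkMap y)
    rw [Scheme.Hom.stalkMap_comp]
    rfl)
  obtain ⟨n, g, hg⟩ := Algebra.FiniteType.iff_quotient_mvPolynomial''.mp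
    (inferInstance : Algebra.FiniteType Γ(S, W) Γ(X, V))
  let q := (hV.primeIdealOf ⟨i y, hyV⟩).asIdeal
  let M := q.primeCompl.comap g
  haveI : (q.comap g).IsPrime := Ideal.comap_isPrime g q
  let P := Localization.AtPrime (q.comap g)
  let φ : P →ₐ[Γ(S, W)] X.presheaf.stalk (i y) := IsLocalization.liftAlgHom (M := (q.comap g).primeCompl)
    (f := (IsScalarTower.toAlgHom Γ(S, W) Γ(X, V) (X.presheaf.stalk (i y))).comp g) fun s => by
      have h : g s.1 ∈ q.primeCompl := s.2
      exact IsLocalization.map_units (M := q.primeCompl) _ ⟨g s.1, h⟩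
  have hφ : Function.Surjective φ := by
    intro b
    obtain ⟨b, ⟨s, hs⟩, rfl⟩ := IsLocalization.exists_mk'_eq q.primeCompl b
    obtain ⟨b, rfl⟩ := hg b
    obtain ⟨s, rfl⟩ := hg s
    refine ⟨IsLocalization.mk' P b (⟨s, hs⟩ : (q.comap g).primeCompl), ?_⟩
    simp [φ, IsLocalization.lift_mk', Units.mul_inv_eq_iff_eq_mul, IsUnit.liftRight]
  letI : Algebra P (X.presheaf.stalk (i y)) := φ.toRingHom.toAlgebra
  haveI : IsScalarTower Γ(S, W) P (X.presheaf.stalk (i y)) := IsScalarTower.of_algebraMap_eq' φ.comp_algebraMap.symm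
  letI : Algebra P (Y.presheaf.stalk y) := ((i.stalkMap y).hom.comp φ.toRingHom).toAlgebra
  haveI : IsScalarTower P (X.presheaf.stalk (i y)) (Y.presheaf.stalk y) := IsScalarTower.of_algebraMap_eq' rfl
  haveI : IsScalarTower Γ(S, W) P (Y.presheaf.stalk y) := IsScalarTower.of_algebraMap_eq fun a => by
    rw [IsScalarTower.algebraMap_apply Γ(S, W) (X.presheaf.stalk (i y)) (Y.presheaf.stalk y),
      IsScalarTower.algebraMap_apply Γ(S, W) P (X.presheaf.stalk (i y)),
      ← IsScalarTower.algebraMap_apply P (X.presheaf.stalk (i y)) (Y.presheaf.stalk y)]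
  haveI : Algebra.FormallyEtale (MvPolynomial (Fin n) Γ(S, W)) P := .of_isLocalization (q.comap g).primeCompl
  haveI : Algebra.FormallySmooth Γ(S, W) P := .comp _ (MvPolynomial (Fin n) Γ(S, W)) _
  haveI : IsNoetherianRing P := IsLocalization.isNoetherianRing (q.comap g).primeCompl P inferInstance
  let e := KaehlerDifferential.tensorKaehlerEquivOfFormallyEtale Γ(S, W) (MvPolynomial (Fin n) Γ(S, W)) P
  haveI : Module.Free P Ω[P⁄Γ(S, W)] := .of_equiv e
  haveI : Module.Finite P Ω[P⁄Γ(S, W)] := .equiv e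
  exact formallySmooth_of_quotient_regular (P := P) (B := X.presheaf.stalk (i y)) (C := Y.presheaf.stalk y)
    hφ (i.stalkMap_surjective y) hY rs hrs.toIsWeaklyRegular hker.symm

/-- A regular immersion of schemes smooth over a field, in the sense of closed immersions. -/
theorem isRegularClosedImmersion_fiberMap (u : Y ⟶ X) (g : X ⟶ S) [IsClosedImmersion u] [Smooth g] [Smooth (u ≫ g)]
    (s : S) : Mor2.IsRegularClosedImmersion (CInt.fiberMap u g s) := by
  have hm := S2890.fiberMap_eq u g s
  haveI hc : IsClosedImmersion (CInt.fiberMap u g s) := by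
    rw [hm]
    exact MorphismProperty.of_isPullback (S2890.isPullback_fiberMap u g s) (inferInstanceAs (IsClosedImmersion u))
  haveI : Smooth (g.fiberToSpecResidueField s) := by
    show Smooth (pullback.snd g (S.fromSpecResidueField s)); infer_instance
  haveI : Smooth ((u ≫ g).fiberToSpecResidueField s) := by
    show Smooth (pullback.snd (u ≫ g) (S.fromSpecResidueField s)); infer_instance
  haveI : IsLocallyNoetherian (g.fiber s) := LocallyOfFiniteType.isLocallyNoetherian (g.fiberToSpecResidueField s)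
  haveI : IsLocallyNoetherian ((u ≫ g).fiber s) :=
    LocallyOfFiniteType.isLocallyNoetherian ((u ≫ g).fiberToSpecResidueField s)
  letI : (g.fiber s).Over (Spec (CommRingCat.of (S.residueField s))) := ⟨g.fiberToSpecResidueField s⟩
  haveI : Smooth (g.fiber s ↘ Spec (CommRingCat.of (S.residueField s))) :=
    inferInstanceAs (Smooth (g.fiberToSpecResidueField s))
  letI : ((u ≫ g).fiber s).Over (Spec (CommRingCat.of (S.residueField s))) := ⟨(u ≫ g).fiberToSpecResidueField s⟩
  haveI : Smooth ((u ≫ g).fiber s ↘ Spec (CommRingCat.of (S.residueField s))) :=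
    inferInstanceAs (Smooth ((u ≫ g).fiberToSpecResidueField s))
  refine ⟨inferInstance, fun w => ?_⟩
  obtain ⟨U, hwU, -, rs, hrs, hk⟩ := (RegIdealLib.isRegularImmersion_of_regular (CInt.fiberMap u g s)
    (fun x => S1535.result (S.residueField s) _ x) (fun z => S1535.result (S.residueField s) _ z)).2 w
  exact ⟨U.1, U.2, hwU, rs, hrs, (Scheme.Hom.ker_apply _ _).trans hk⟩

/-- Near a point where both are smooth, a closed immersion is regular. -/
theorem isRegularIdeal_of_mem_smoothLocus [IsLocallyNoetherian S] (f : X ⟶ S) [LocallyOfFiniteType f]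
    [LocallyOfFinitePresentation f] (i : Y ⟶ X) [IsClosedImmersion i] [LocallyOfFinitePresentation (i ≫ f)] (y : Y)
    (hY : y ∈ (i ≫ f).smoothLocus) (hX : i y ∈ f.smoothLocus) :
    CInt.IsRegularIdeal (RingHom.ker (i.stalkMap y).hom) := by
  haveI : IsLocallyNoetherian X := LocallyOfFiniteType.isLocallyNoetherian f
  obtain ⟨O, hO, hOY⟩ := (IsClosedImmersion.base_closed (f := i)).isInducing.isOpen_iff.mp (i ≫ f).smoothLocus.2
  let V : X.Opens := f.smoothLocus ⊓ ⟨O, hO⟩
  have hyV : i y ∈ V := ⟨hX, by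
    have h : y ∈ (i.base ⁻¹' O : Set Y) := hOY.symm ▸ hY
    exact h⟩
  haveI : Smooth (V.ι ≫ f) := by
    rw [← Scheme.Hom.smoothLocus_eq_top_iff, ← Scheme.Hom.preimage_smoothLocus_eq, eq_top_iff]
    rintro z -
    exact z.2.1
  haveI : IsClosedImmersion (i ∣_ V) := IsZariskiLocalAtTarget.restrict (P := @IsClosedImmersion) (inferInstanceAs (IsClosedImmersion i)) V
  haveI : Smooth ((i ∣_ V) ≫ V.ι ≫ f) := by
    rw [morphismRestrict_ι_assoc, ← Scheme.Hom.smoothLocus_eq_top_iff, ← Scheme.Hom.preimage_smoothLocus_eq,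
      eq_top_iff]
    rintro z -
    have h : (z.1 : Y) ∈ (i.base ⁻¹' O : Set Y) := z.2.2
    rw [hOY] at h
    exact h
  have h := (S2890.result (i ∣_ V) (V.ι ≫ f)).mpr ⟨fun z => Flat.stalkMap (V.ι ≫ f) _, inferInstance,
    fun s => isRegularClosedImmersion_fiberMap (i ∣_ V) (V.ι ≫ f) s⟩
  exact (RegIdealLib.regular_near_iff i y).mp ⟨V, hyV, h.2⟩

end Groth.Agent.SmoothRegLib
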