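import Groth.Agent.SmoothRegLib.Main

/-!
A lift of a smooth scheme by a regular sequence is smooth, over an arbitrary base.
-/

set_option autoImplicit false
set_option backward.isDefEq.respectTransparency false
set_option backward.defeqAttrib.useBackward true
set_option linter.style.haveILetI false
universe u

open CategoryTheory CategoryTheory.Limits AlgebraicGeometry IsLocalRing RingTheory.Sequence
open scoped TensorProduct

namespace Groth.Agent.SmoothRegLib

variable {X Y S : Scheme.{u}}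

/-- Smoothness lifts along a regular sequence, over any base. -/
theorem formallySmooth_stalk_of_regular' (f : X ⟶ S) [LocallyOfFinitePresentation f] (i : Y ⟶ X)
    [IsClosedImmersion i] (y : Y) (hY : ((i ≫ f).stalkMap y).hom.FormallySmooth)
    (rs : List (X.presheaf.stalk (i y))) (hrs : IsWeaklyRegular (X.presheaf.stalk (i y)) rs)
    (hker : RingHom.ker (i.stalkMap y).hom = Ideal.ofList rs) : (f.stalkMap (i y)).hom.FormallySmooth := by
  obtain ⟨_, ⟨W : S.Opens, hW, rfl⟩, hyW, -⟩ :=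
    S.isBasis_affineOpens.exists_subset_of_mem_open (Set.mem_univ (f (i y))) isOpen_univ
  obtain ⟨_, ⟨V : X.Opens, hV, rfl⟩, hyV, hVW⟩ :=
    X.isBasis_affineOpens.exists_subset_of_mem_open (a := i y) (u := f ⁻¹' W) hyW (W.2.preimage f.continuous)
  rw [formallySmooth_stalkMap_iff_germ f (i y) hW hyW]
  rw [formallySmooth_stalkMap_iff_germ (i ≫ f) y hW hyW] at hY
  have hft : (f.appLE W V hVW).hom.FinitePresentation :=
    HasRingHomProperty.appLE (P := @LocallyOfFinitePresentation) f inferInstance ⟨W, hW⟩ ⟨V, hV⟩ hVW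
  algebraize [(f.appLE W V hVW).hom]
  letI : Algebra Γ(X, V) (X.presheaf.stalk (i y)) := TopCat.Presheaf.algebra_section_stalk X.presheaf ⟨i y, hyV⟩
  haveI := hV.isLocalization_stalk ⟨i y, hyV⟩
  letI : Algebra Γ(S, W) (X.presheaf.stalk (i y)) :=
    (S.presheaf.germ W (f (i y)) hyW ≫ f.stalkMap (i y)).hom.toAlgebra
  haveI : IsScalarTower Γ(S, W) Γ(X, V) (X.presheaf.stalk (i y)) := IsScalarTower.of_algebraMap_eq' (by
    refine congrArg CommRingCat.Hom.hom (?_ : S.presheaf.germ W (f (i y)) hyW ≫ f.stalkMap (i y) =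
      f.appLE W V hVW ≫ X.presheaf.germ V (i y) hyV)
    rw [Scheme.Hom.germ_stalkMap, Scheme.Hom.appLE, Category.assoc, TopCat.Presheaf.germ_res])
  letI : Algebra (X.presheaf.stalk (i y)) (Y.presheaf.stalk y) := (i.stalkMap y).hom.toAlgebra
  letI : Algebra Γ(S, W) (Y.presheaf.stalk y) :=
    (S.presheaf.germ W ((i ≫ f) y) hyW ≫ (i ≫ f).stalkMap y).hom.toAlgebra
  haveI : IsScalarTower Γ(S, W) (X.presheaf.stalk (i y)) (Y.presheaf.stalk y) := IsScalarTower.of_algebraMap_eq' (by
    refine congrArg CommRingCat.Hom.hom (?_ : S.presheaf.germ W ((i ≫ f) y) hyW ≫ (i ≫ f).stalkMap y =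
      (S.presheaf.germ W (f (i y)) hyW ≫ f.stalkMap (i y)) ≫ i.stalkMap y)
    rw [Scheme.Hom.stalkMap_comp]
    rfl)
  obtain ⟨n, g, hg, hgfg⟩ := (inferInstance : Algebra.FinitePresentation Γ(S, W) Γ(X, V)).out
  let q := (hV.primeIdealOf ⟨i y, hyV⟩).asIdeal
  let M := q.primeCompl.comap g
  haveI : (q.comap g).IsPrime := Ideal.comap_isPrime g q
  let P := Localization.AtPrime (q.comap g)
  let φ : P →ₐ[Γ(S, W)] X.presheaf.stalk (i y) := IsLocalization.liftAlgHom (M := (q.comap g).primeCompl)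
    (f := (IsScalarTower.toAlgHom Γ(S, W) Γ(X, V) (X.presheaf.stalk (i y))).comp g) fun s => by
      have h : g s.1 ∈ q.primeCompl := s.2
      exact IsLocalization.map_units (M := q.primeCompl) _ ⟨g s.1, h⟩
  have hφ : Function.Surjective φ := by
    intro b
    obtain ⟨b, ⟨s, hs⟩, rfl⟩ := IsLocalization.exists_mk'_eq q.primeCompl b
    obtain ⟨b, rfl⟩ := hg b
    obtain ⟨s, rfl⟩ := hg s
    refine ⟨IsLocalization.mk' P b (⟨s, hs⟩ : (q.comap g).primeCompl), ?_⟩
    simp [φ, IsLocalization.lift_mk', Units.mul_inv_eq_iff_eq_mul, IsUnit.liftRight]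
  letI : Algebra P (X.presheaf.stalk (i y)) := φ.toRingHom.toAlgebra
  haveI : IsScalarTower Γ(S, W) P (X.presheaf.stalk (i y)) := IsScalarTower.of_algebraMap_eq' φ.comp_algebraMap.symm
  letI : Algebra P (Y.presheaf.stalk y) := ((i.stalkMap y).hom.comp φ.toRingHom).toAlgebra
  haveI : IsScalarTower P (X.presheaf.stalk (i y)) (Y.presheaf.stalk y) := IsScalarTower.of_algebraMap_eq' rfl
  haveI : IsScalarTower Γ(S, W) P (Y.presheaf.stalk y) := IsScalarTower.of_algebraMap_eq fun a => by
    rw [IsScalarTower.algebraMap_apply Γ(S, W) (X.presheaf.stalk (i y)) (Y.presheaf.stalk y),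
      IsScalarTower.algebraMap_apply Γ(S, W) P (X.presheaf.stalk (i y)),
      ← IsScalarTower.algebraMap_apply P (X.presheaf.stalk (i y)) (Y.presheaf.stalk y)]
  haveI : Algebra.FormallyEtale (MvPolynomial (Fin n) Γ(S, W)) P := .of_isLocalization (q.comap g).primeCompl
  haveI : Algebra.FormallySmooth Γ(S, W) P := .comp _ (MvPolynomial (Fin n) Γ(S, W)) _
  have hfg : (RingHom.ker (algebraMap P (X.presheaf.stalk (i y)))).FG := by
    refine (congrArg Submodule.FG ?_).mpr (Ideal.FG.map hgfg (algebraMap (MvPolynomial (Fin n) Γ(S, W)) P))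
    refine le_antisymm (fun x hx => ?_) (Ideal.map_le_iff_le_comap.2 fun a ha => ?_)
    · obtain ⟨a, ⟨s, hs⟩, rfl⟩ := IsLocalization.exists_mk'_eq (q.comap g).primeCompl x
      rw [IsLocalization.mk'_mem_map_algebraMap_iff]
      have h0 : algebraMap Γ(X, V) (X.presheaf.stalk (i y)) (g a) = 0 := by
        have h1 : φ (algebraMap _ P a) = 0 := by
          rw [← IsLocalization.mk'_spec P a (⟨s, hs⟩ : (q.comap g).primeCompl), map_mul]
          rw [RingHom.mem_ker] at hx
          rw [show φ (IsLocalization.mk' P a (⟨s, hs⟩ : (q.comap g).primeCompl)) = 0 from hx, zero_mul]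
        simpa [φ] using h1
      obtain ⟨⟨t, ht⟩, htz⟩ := (IsLocalization.map_eq_zero_iff q.primeCompl _ _).1 h0
      obtain ⟨t, rfl⟩ := hg t
      refine ⟨t, ht, ?_⟩
      show g (t * a) = 0
      rw [map_mul]; exact htz
    · show φ (algebraMap _ P a) = 0
      simp [φ, show g a = 0 from ha]
  let e := KaehlerDifferential.tensorKaehlerEquivOfFormallyEtale Γ(S, W) (MvPolynomial (Fin n) Γ(S, W)) P
  haveI : Module.Free P Ω[P⁄Γ(S, W)] := .of_equiv e
  haveI : Module.Finite P Ω[P⁄Γ(S, W)] := .equiv e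
  exact formallySmooth_of_quotient_regular' (P := P) (B := X.presheaf.stalk (i y)) (C := Y.presheaf.stalk y)
    hφ (i.stalkMap_surjective y) hY rs hrs hker hfg

end Groth.Agent.SmoothRegLib
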